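import Cfsg.Agent.Lib.Fischer.M22Sylow.SymSeven
import Cfsg.Agent.Lib.Fischer.SymFour

/-!
Thirty-six members in which every member sees twenty-one spanning the symmetric group of degree seven: they
generate the symmetric group of degree nine and are rigid.
-/

set_option autoImplicit false
set_option linter.unusedSectionVars false
set_option maxRecDepth 10000
set_option synthInstance.maxSize 4000
set_option synthInstance.maxHeartbeats 200000

namespace CfsgLib.Fischer.M22Sylow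

open CfsgLib.Fischer Transitivity

/-- Transpositions on nine letters, indexed by increasing pairs. -/
abbrev Pair9 : Type := {p : Fin 9 × Fin 9 // p.1 < p.2}

/-- The transposition of a pair. -/
def sw9 (p : Pair9) : Equiv.Perm (Fin 9) := Equiv.swap p.1.1 p.1.2

/-- The adjacent transpositions. -/
def adj9 (i : Fin 8) : Equiv.Perm (Fin 9) := Equiv.swap i.castSucc i.succ

theorem exists_pair9 : ∀ i j : Fin 9, i ≠ j → ∃ p : Pair9, sw9 p = Equiv.swap i j := by decide +kernel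

theorem sw9_inj : ∀ p q : Pair9, sw9 p = sw9 q → p = q := by decide +kernel

theorem sw9_adjacent : ∀ p q : Pair9, sw9 p * sw9 q ≠ sw9 q * sw9 p → ∃ a b c : Fin 9,
    (Equiv.swap 0 a * Equiv.swap 1 b * Equiv.swap 2 c) * adj9 0 =
        sw9 p * (Equiv.swap 0 a * Equiv.swap 1 b * Equiv.swap 2 c) ∧
      (Equiv.swap 0 a * Equiv.swap 1 b * Equiv.swap 2 c) * adj9 1 =
        sw9 q * (Equiv.swap 0 a * Equiv.swap 1 b * Equiv.swap 2 c) := by decide +kernel

theorem sw9_separate : ∀ p q : Pair9, p ≠ q → sw9 p * sw9 q = sw9 q * sw9 p →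
    ∃ r : Pair9, sw9 r * sw9 p = sw9 p * sw9 r ∧ sw9 r * sw9 q ≠ sw9 q * sw9 r := by decide +kernel

theorem adj9_commute : ∀ i k : Fin 8, i < k →
    (adj9 k * adj9 i = adj9 i * adj9 k ↔ (i : ℕ) + 1 ≠ k) := by decide +kernel

theorem adj9_step : ∀ k : Fin 8, ∀ q : Pair9,
    (∀ i : Fin 8, i < k → (sw9 q * adj9 i = adj9 i * sw9 q ↔ (i : ℕ) + 1 ≠ k) ∧ sw9 q ≠ adj9 i) →
    ∃ a b c e : Fin 9, (Equiv.swap a b * Equiv.swap c e) * sw9 q = adj9 k * (Equiv.swap a b * Equiv.swap c e) ∧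
      ∀ i : Fin 8, i < k → (Equiv.swap a b * Equiv.swap c e) * adj9 i = adj9 i * (Equiv.swap a b * Equiv.swap c e) := by
  decide +kernel

theorem adj9_inj : ∀ i k : Fin 8, adj9 i = adj9 k → i.castSucc = k.castSucc := by decide +kernel

theorem perm_nine_center : ∀ σ : Equiv.Perm (Fin 9), (∀ i j, σ * Equiv.swap i j = Equiv.swap i j * σ) → σ = 1 := by
  intro σ h
  refine Equiv.ext fun i => ?_
  rw [Equiv.Perm.one_apply]
  by_contra hne
  obtain ⟨j, hj1, hj2⟩ : ∃ j, j ≠ i ∧ j ≠ σ i := by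
    revert hne
    generalize σ i = k
    revert i k
    decide +kernel
  have h1 := DFunLike.congr_fun (h i j) i
  rw [Equiv.Perm.mul_apply, Equiv.Perm.mul_apply, Equiv.swap_apply_left,
    Equiv.swap_apply_of_ne_of_ne hne (Ne.symm hj2)] at h1
  exact hj1 (σ.injective h1)

/-- The five pairwise relations forced on the images of a quadruple. -/
theorem pair7_octahedron : ∀ A B : Pair7, sw7 A * sw7 B = sw7 B * sw7 A → A ≠ B →
    ∀ C : Pair7, (sw7 A * sw7 C = sw7 C * sw7 A ∧ A ≠ C ∧ sw7 B * sw7 C = sw7 C * sw7 B ∧ B ≠ C) →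
    ∀ E : Pair7, (sw7 B * sw7 E = sw7 E * sw7 B ∧ B ≠ E ∧ sw7 C * sw7 E = sw7 E * sw7 C ∧ C ≠ E) →
    ∀ F : Pair7, (sw7 A * sw7 F = sw7 F * sw7 A ∧ A ≠ F ∧ sw7 C * sw7 F = sw7 F * sw7 C ∧ C ≠ F) →
    sw7 E * sw7 F = sw7 F * sw7 E → E ≠ F → E = A ∨ F = B := by decide +kernel

/-- A pair contains the point. -/
def Has7 (i : Fin 7) (p : Pair7) : Prop := p.1.1 = i ∨ p.1.2 = i

instance (i : Fin 7) (p : Pair7) : Decidable (Has7 i p) := instDecidableOr

theorem pair7_meet : ∀ p q : Pair7, p ≠ q → sw7 p * sw7 q ≠ sw7 q * sw7 p → ∃ i : Fin 7, Has7 i p ∧ Has7 i q ∧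
    ∀ r : Pair7, (r = p ∨ sw7 r * sw7 p ≠ sw7 p * sw7 r) → (r = q ∨ sw7 r * sw7 q ≠ sw7 q * sw7 r) → ¬ Has7 i r →
      ∀ r' : Pair7, (r' = p ∨ sw7 r' * sw7 p ≠ sw7 p * sw7 r') → (r' = q ∨ sw7 r' * sw7 q ≠ sw7 q * sw7 r') →
        (r' = r ∨ sw7 r' * sw7 r ≠ sw7 r * sw7 r') → r' = p ∨ r' = q ∨ r' = r := by decide +kernel

theorem card_has7 : ∀ i : Fin 7, (Finset.univ.filter (Has7 i)).card = 6 := by decide +kernel

theorem has7_moved : ∀ i : Fin 7, ∀ j : Fin 6, ∀ p : Pair7,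
    sw7 p = Equiv.swap (Equiv.swap 0 i j.castSucc) (Equiv.swap 0 i j.succ) → (Has7 i p ↔ j = 0) := by
  decide +kernel

variable {G : Type*} [Group G] [Finite G] {D T : Set G}

/-- A set mapping faithfully onto such a set of twenty-one members is one. -/
theorem Seven21.of_image {H : Type*} [Group H] [Finite H] {E U : Set H} {P : Set G} (f : G → H) (hU : Seven21 E U)
    (hsub : P ⊆ D) (hcl : ∀ a ∈ P, ∀ b ∈ P, a * b * a ∈ P) (himg : f '' P = U) (hinj : Set.InjOn f P)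
    (hc : ∀ u ∈ P, ∀ v ∈ P, (Commute (f u) (f v) ↔ Commute u v))
    (hof : ∀ {U' : Set H} {P' : Set G}, Cubic E U' → P' ⊆ D → (∀ a ∈ P', ∀ b ∈ P', a * b * a ∈ P') →
      f '' P' = U' → Set.InjOn f P' → (∀ u ∈ P', ∀ v ∈ P', (Commute (f u) (f v) ↔ Commute u v)) → Cubic D P')
    (hperpcl : ∀ d ∈ P, ∀ a ∈ perp P d, ∀ b ∈ perp P d, a * b * a ∈ perp P d) : Seven21 D P := by
  have hmem : ∀ u ∈ P, f u ∈ U := fun u hu => himg ▸ ⟨u, hu, rfl⟩
  have hperp : ∀ u ∈ P, perp U (f u) = f '' perp P u := by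
    intro u hu
    ext w
    constructor
    · rintro ⟨hw, hne, hcm⟩
      rw [← himg] at hw
      obtain ⟨v, hv, rfl⟩ := hw
      exact ⟨v, ⟨hv, fun e => hne (by rw [e]), (hc u hu v hv).1 hcm⟩, rfl⟩
    · rintro ⟨v, ⟨hv, hne, hcm⟩, rfl⟩
      exact ⟨hmem v hv, fun e => hne (hinj hv hu e), (hc u hu v hv).2 hcm⟩
  have hsubP : ∀ u, perp P u ⊆ P := fun u v hv => hv.1
  refine ⟨hsub, ?_, hcl, fun a ha => ?_, fun a ha b hb hab => ?_⟩
  · rw [← Set.image_nonempty (f := f), himg]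
    exact hU.ne
  · exact hof (hU.loc _ (hmem a ha)) ((hsubP a).trans hsub) (hperpcl a ha) (hperp a ha).symm (hinj.mono (hsubP a))
      fun u hu v hv => hc u hu.1 v hv.1
  · rw [← Set.InjOn.ncard_image (hinj.mono (fun u hu => hu.1.1)), hinj.image_inter (hsubP a) (hsubP b),
      ← hperp a ha, ← hperp b hb]
    exact hU.six _ (hmem a ha) _ (hmem b hb) fun k => hab ((hc a ha b hb).1 k)

/-- The hypotheses on the set. -/
structure Nine36 (D T : Set G) : Prop where
  sub : T ⊆ D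
  ne : T.Nonempty
  closed : ∀ a ∈ T, ∀ b ∈ T, a * b * a ∈ T
  loc : ∀ a ∈ T, Seven21 D (perp T a)
  mod5 : ∀ a ∈ T, ∀ b ∈ T, ¬ Commute a b → (perp T a ∩ perp T b).ncard % 5 = 0

variable (h : Nine36 D T) (hD : Cfsg.IsThreeTranspositionGroup D)
include h hD

/-- Conjugating by two commuting members gives a commuting member. -/
theorem Nine36.pair_conj {x p q : G} (hx : x ∈ T) (hp : p ∈ T) (hq : q ∈ T) (hne : p ≠ q) (hpq : Commute p q)
    (hxp : ¬ Commute x p) (hxq : ¬ Commute x q) : (p * q) * x * (p * q)⁻¹ ∈ perp T x := by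
  obtain ⟨ψ, hψ, e1, e2, e3⟩ := SymFour.exists_injective_of_string hD.1 (h.sub hp) (h.sub hx) (h.sub hq) hne hpq
    (fun k => hxp k.symm) hxq
  have e : (p * q) * x * (p * q)⁻¹ = ψ (Equiv.swap 0 3) := by
    rw [← e1, ← e2, ← e3, ← map_mul, ← map_inv, ← map_mul, ← map_mul]
    congr 1
    decide
  refine ⟨?_, ?_, ?_⟩
  · rw [mul_inv_rev, inv_eq hD.1 (h.sub hp), inv_eq hD.1 (h.sub hq),
      show p * q * x * (q * p) = p * (q * x * q) * p by group]
    exact h.closed p hp _ (h.closed q hq x hx)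
  · rw [e, ← e2]
    exact fun k => absurd (hψ k) (by decide)
  · rw [e, ← e2]
    exact (show Commute (Equiv.swap (1 : Fin 4) 2) (Equiv.swap 0 3) by unfold Commute SemiconjBy; decide).map ψ

/-- The product of four commuting members centralizes every member commuting with none of them. -/
theorem Nine36.quad {x p₁ p₂ p₃ p₄ : G} (hx : x ∈ T) (h₁ : p₁ ∈ T) (h₂ : p₂ ∈ T) (h₃ : p₃ ∈ T) (h₄ : p₄ ∈ T)
    (n₁₂ : p₁ ≠ p₂) (n₁₃ : p₁ ≠ p₃) (n₁₄ : p₁ ≠ p₄) (n₂₃ : p₂ ≠ p₃) (n₂₄ : p₂ ≠ p₄) (n₃₄ : p₃ ≠ p₄)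
    (c₁₂ : Commute p₁ p₂) (c₁₃ : Commute p₁ p₃) (c₁₄ : Commute p₁ p₄) (c₂₃ : Commute p₂ p₃) (c₂₄ : Commute p₂ p₄)
    (c₃₄ : Commute p₃ p₄) (x₁ : ¬ Commute x p₁) (x₂ : ¬ Commute x p₂) (x₃ : ¬ Commute x p₃) (x₄ : ¬ Commute x p₄) :
    Commute (p₁ * p₂ * p₃ * p₄) x := by
  obtain ⟨φ, hinj, hTeq, -⟩ := (h.loc x hx).exists_hom hD
  obtain ⟨c, hc⟩ : ∃ c : G → G → G, ∀ p q, c p q = (p * q) * x * (p * q)⁻¹ := ⟨fun p q => _, fun p q => rfl⟩
  have hmem : ∀ p q, p ∈ T → q ∈ T → p ≠ q → Commute p q → ¬ Commute x p → ¬ Commute x q →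
      ∃ A, φ (sw7 A) = c p q := by
    intro p q hp hq hne hpq hxp hxq
    have := h.pair_conj hD hx hp hq hne hpq hxp hxq
    rw [← hTeq, ← hc] at this
    exact this
  have key : ∀ i j k, i ∈ T → j ∈ T → k ∈ T → j ≠ k → Commute i j → Commute i k → Commute j k →
      ¬ Commute x j → ¬ Commute x k → Commute (c i j) (c i k) ∧ c i j ≠ c i k := by
    intro i j k hi hj hk hne hij hik hjk hxj hxk
    obtain ⟨-, hne', hcm⟩ := h.pair_conj hD hx hj hk hne hjk hxj hxk
    have hkk : k * k = 1 := sq_eq_one hD.1 (h.sub hk)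
    have e : c i j = (i * k) * ((j * k) * x * (j * k)⁻¹) * (i * k)⁻¹ := by
      rw [hc, show i * j = (i * k) * (j * k) by
        calc i * j = i * (j * (k * k)) := by rw [hkk, mul_one]
          _ = i * ((k * j) * k) := by rw [← mul_assoc j, hjk.eq]
          _ = (i * k) * (j * k) := by group]
      group
    rw [e, hc i k]
    exact ⟨(conj_commute_iff _ _ _).2 hcm.symm, fun k' => hne' (mul_left_cancel (mul_right_cancel k'))⟩
  have hsymm : ∀ i j, Commute i j → c i j = c j i := fun i j k => by rw [hc, hc, k.eq]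
  obtain ⟨A, hA⟩ := hmem _ _ h₁ h₂ n₁₂ c₁₂ x₁ x₂
  obtain ⟨B, hB⟩ := hmem _ _ h₁ h₃ n₁₃ c₁₃ x₁ x₃
  obtain ⟨C, hC⟩ := hmem _ _ h₁ h₄ n₁₄ c₁₄ x₁ x₄
  obtain ⟨E, hE⟩ := hmem _ _ h₃ h₄ n₃₄ c₃₄ x₃ x₄
  obtain ⟨F, hF⟩ := hmem _ _ h₂ h₄ n₂₄ c₂₄ x₂ x₄
  have hrel : ∀ {P Q : Pair7} {u v : G}, φ (sw7 P) = u → φ (sw7 Q) = v → Commute u v ∧ u ≠ v →
      sw7 P * sw7 Q = sw7 Q * sw7 P ∧ P ≠ Q := fun hP hQ k =>
    ⟨hinj (by rw [map_mul, map_mul, hP, hQ]; exact k.1.eq), fun e => k.2 (by rw [← hP, ← hQ, e])⟩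
  have rAB := hrel hA hB (key _ _ _ h₁ h₂ h₃ n₂₃ c₁₂ c₁₃ c₂₃ x₂ x₃)
  have rAC := hrel hA hC (key _ _ _ h₁ h₂ h₄ n₂₄ c₁₂ c₁₄ c₂₄ x₂ x₄)
  have rBC := hrel hB hC (key _ _ _ h₁ h₃ h₄ n₃₄ c₁₃ c₁₄ c₃₄ x₃ x₄)
  have rBE := hrel (hB.trans (hsymm _ _ c₁₃)) hE (key _ _ _ h₃ h₁ h₄ n₁₄ c₁₃.symm c₃₄ c₁₄ x₁ x₄)
  have rCE := hrel (hC.trans (hsymm _ _ c₁₄)) (hE.trans (hsymm _ _ c₃₄))
    (key _ _ _ h₄ h₁ h₃ n₁₃ c₁₄.symm c₃₄.symm c₁₃ x₁ x₃)
  have rAF := hrel (hA.trans (hsymm _ _ c₁₂)) hF (key _ _ _ h₂ h₁ h₄ n₁₄ c₁₂.symm c₂₄ c₁₄ x₁ x₄)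
  have rCF := hrel (hC.trans (hsymm _ _ c₁₄)) (hF.trans (hsymm _ _ c₂₄))
    (key _ _ _ h₄ h₁ h₂ n₁₂ c₁₄.symm c₂₄.symm c₁₂ x₁ x₂)
  have rEF := hrel (hE.trans (hsymm _ _ c₃₄)) (hF.trans (hsymm _ _ c₂₄))
    (key _ _ _ h₄ h₃ h₂ (Ne.symm n₂₃) c₃₄.symm c₂₄.symm c₂₃.symm x₃ x₂)
  -- conjugates agreeing give an element fixing `x`
  have hfix : ∀ p q r s : G, p * p = 1 → q * q = 1 → Commute p q → c r s = c p q → Commute (p * q * (r * s)) x := by
    intro p q r s hpp hqq hpq k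
    rw [hc, hc] at k
    have hsq : (p * q) * (p * q) = 1 := by
      calc (p * q) * (p * q) = p * (q * p) * q := by group
        _ = p * (p * q) * q := by rw [hpq.eq]
        _ = (p * p) * (q * q) := by group
        _ = 1 := by rw [hpp, hqq, one_mul]
    show p * q * (r * s) * x = x * (p * q * (r * s))
    calc p * q * (r * s) * x = (p * q) * ((r * s) * x * (r * s)⁻¹) * (r * s) := by group
      _ = ((p * q) * (p * q)) * x * ((p * q) * (p * q))⁻¹ * (p * q) * (r * s) := by rw [k]; group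
      _ = x * (p * q * (r * s)) := by rw [hsq]; group
  have hsq1 : ∀ {p}, p ∈ T → p * p = 1 := fun hp => sq_eq_one hD.1 (h.sub hp)
  rcases pair7_octahedron A B rAB.1 rAB.2 C ⟨rAC.1, rAC.2, rBC.1, rBC.2⟩ E ⟨rBE.1, rBE.2, rCE.1, rCE.2⟩
    F ⟨rAF.1, rAF.2, rCF.1, rCF.2⟩ rEF.1 rEF.2 with e | e
  · rw [show p₁ * p₂ * p₃ * p₄ = p₁ * p₂ * (p₃ * p₄) by group]
    exact hfix _ _ _ _ (hsq1 h₁) (hsq1 h₂) c₁₂ (by rw [← hE, ← hA, e])
  · rw [show p₁ * p₂ * p₃ * p₄ = p₁ * (p₂ * p₃) * p₄ by group, c₂₃.eq,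
      show p₁ * (p₃ * p₂) * p₄ = p₁ * p₃ * (p₂ * p₄) by group]
    exact hfix _ _ _ _ (hsq1 h₁) (hsq1 h₃) c₁₃ (by rw [← hF, ← hB, e])

/-- Non-commuting members have fifteen common neighbours, six of them commuting with each. -/
theorem Nine36.fifteen {a b : G} (ha : a ∈ T) (hb : b ∈ T) (hab : ¬ Commute a b) :
    (perp T a ∩ perp T b).ncard = 15 ∧
      ∀ u ∈ perp T a ∩ perp T b, ((perp T a ∩ perp T b) ∩ perp T u).ncard = 6 := by
  obtain ⟨φ, hinj, hTeq, -⟩ := (h.loc a ha).exists_hom hD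
  have hP : ∀ p, φ (sw7 p) ∈ perp T a := fun p => hTeq ▸ ⟨p, rfl⟩
  obtain ⟨K, hK⟩ : ∃ K, K = perp T a ∩ perp T b := ⟨_, rfl⟩
  rw [← hK]
  have hsix : ∀ u ∈ K, (K ∩ perp T u).ncard = 6 := by
    intro u hu
    rw [hK] at hu
    rw [← (h.loc u hu.1.1).six a ⟨ha, Ne.symm hu.1.2.1, hu.1.2.2.symm⟩ b ⟨hb, Ne.symm hu.2.2.1, hu.2.2.2.symm⟩ hab, hK]
    congr 1
    ext z
    constructor
    · rintro ⟨⟨h1, h2⟩, h3⟩
      exact ⟨⟨h3, h1.2⟩, h3, h2.2⟩
    · rintro ⟨⟨h3, h1⟩, -, h2⟩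
      exact ⟨⟨⟨h3.1, h1⟩, h3.1, h2⟩, h3⟩
  refine ⟨?_, hsix⟩
  have hne : K.Nonempty := by
    by_contra hc
    have hall : ∀ z ∈ perp T a, ¬ Commute b z := fun z hz k =>
      hc ⟨z, hK ▸ ⟨hz, hz.1, fun e => hab (e ▸ hz.2.2), k⟩⟩
    obtain ⟨e, he⟩ : ∃ e : Fin 7 → Fin 7 → G, ∀ i j, e i j = φ (Equiv.swap i j) := ⟨fun i j => _, fun i j => rfl⟩
    have heP : ∀ i j, i ≠ j → e i j ∈ perp T a := fun i j k => by
      obtain ⟨p, hp⟩ := exists_pair7 i j k
      rw [he, ← hp]; exact hP p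
    have hec : ∀ i j k l : Fin 7, Equiv.swap i j * Equiv.swap k l = Equiv.swap k l * Equiv.swap i j →
        Commute (e i j) (e k l) := fun i j k l q => by
      rw [he, he]; exact (show Commute (Equiv.swap i j) (Equiv.swap k l) from q).map φ
    have hen : ∀ i j k l : Fin 7, Equiv.swap i j ≠ Equiv.swap k l → e i j ≠ e k l := fun i j k l q k' =>
      q (hinj (by rwa [← he, ← he]))
    have hquad : ∀ i j k l m n : Fin 7, i ≠ j → k ≠ l → m ≠ n →
        Equiv.swap i j * Equiv.swap k l = Equiv.swap k l * Equiv.swap i j →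
        Equiv.swap i j * Equiv.swap m n = Equiv.swap m n * Equiv.swap i j →
        Equiv.swap k l * Equiv.swap m n = Equiv.swap m n * Equiv.swap k l →
        Equiv.swap i j ≠ Equiv.swap k l → Equiv.swap i j ≠ Equiv.swap m n → Equiv.swap k l ≠ Equiv.swap m n →
        Commute (a * (e i j * e k l * e m n)) b := by
      intro i j k l m n n1 n2 n3 c1 c2 c3 d1 d2 d3
      rw [show a * (e i j * e k l * e m n) = a * e i j * e k l * e m n by group]
      exact h.quad hD hb ha (heP i j n1).1 (heP k l n2).1 (heP m n n3).1 (Ne.symm (heP i j n1).2.1)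
        (Ne.symm (heP k l n2).2.1) (Ne.symm (heP m n n3).2.1) (hen _ _ _ _ d1) (hen _ _ _ _ d2) (hen _ _ _ _ d3)
        (heP i j n1).2.2 (heP k l n2).2.2 (heP m n n3).2.2 (hec _ _ _ _ c1) (hec _ _ _ _ c2) (hec _ _ _ _ c3)
        (fun q => hab q.symm) (hall _ (heP i j n1)) (hall _ (heP k l n2)) (hall _ (heP m n n3))
    have q1 := hquad 0 1 2 3 4 5 (by decide) (by decide) (by decide) (by decide +kernel) (by decide +kernel)
      (by decide +kernel) (by decide +kernel) (by decide +kernel) (by decide +kernel)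
    have q2 := hquad 0 1 2 4 3 5 (by decide) (by decide) (by decide) (by decide +kernel) (by decide +kernel)
      (by decide +kernel) (by decide +kernel) (by decide +kernel) (by decide +kernel)
    have q3 := q1.inv_left.mul_left q2
    rw [show (a * (e 0 1 * e 2 3 * e 4 5))⁻¹ * (a * (e 0 1 * e 2 4 * e 3 5)) =
        e 2 5 * e 3 4 by
      simp only [he]
      rw [show (a * (φ (Equiv.swap 0 1) * φ (Equiv.swap 2 3) * φ (Equiv.swap 4 5)))⁻¹ *
        (a * (φ (Equiv.swap 0 1) * φ (Equiv.swap 2 4) * φ (Equiv.swap 3 5))) =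
        (φ (Equiv.swap 0 1) * φ (Equiv.swap 2 3) * φ (Equiv.swap 4 5))⁻¹ *
        (φ (Equiv.swap 0 1) * φ (Equiv.swap 2 4) * φ (Equiv.swap 3 5)) by group]
      simp only [← map_mul, ← map_inv]
      congr 1
      decide +kernel] at q3
    have hp := h.pair_conj hD hb (heP 2 5 (by decide)).1 (heP 3 4 (by decide)).1 (hen _ _ _ _ (by decide +kernel))
      (hec _ _ _ _ (by decide +kernel)) (hall _ (heP _ _ (by decide))) (hall _ (heP _ _ (by decide)))
    exact hp.2.1 (by rw [q3.eq, mul_inv_cancel_right])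
  obtain ⟨u, hu⟩ := hne
  have hu' := (hK ▸ hu : u ∈ perp T a ∩ perp T b)
  obtain ⟨v, hv⟩ : (K ∩ perp T u).Nonempty := Set.nonempty_of_ncard_ne_zero (by rw [hsix u hu]; norm_num)
  have hv' := (hK ▸ hv.1 : v ∈ perp T a ∩ perp T b)
  have hone : (K ∩ perp T u ∩ (K ∩ perp T v)).ncard ≤ 1 := by
    have hau : a ∈ perp T u := ⟨ha, Ne.symm hu'.1.2.1, hu'.1.2.2.symm⟩
    have hbu : b ∈ perp T u := ⟨hb, Ne.symm hu'.2.2.1, hu'.2.2.2.symm⟩
    have h1 := ((h.loc u hu'.1.1).loc v hv.2).one a ⟨hau, Ne.symm hv'.1.2.1, hv'.1.2.2.symm⟩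
      b ⟨hbu, Ne.symm hv'.2.2.1, hv'.2.2.2.symm⟩ hab
    refine (Set.ncard_le_ncard ?_).trans h1.le
    rintro z ⟨⟨hz, hzu⟩, -, hzv⟩
    rw [hK] at hz
    exact ⟨⟨⟨hzu, hzv.2⟩, hz.1.2⟩, ⟨hzu, hzv.2⟩, hz.2.2⟩
  have h11 : 11 ≤ K.ncard := by
    have h2 := Set.ncard_union_add_ncard_inter (K ∩ perp T u) (K ∩ perp T v)
    rw [hsix u hu, hsix v hv.1] at h2
    have h3 : (K ∩ perp T u ∪ K ∩ perp T v).ncard ≤ K.ncard :=
      Set.ncard_le_ncard (Set.union_subset Set.inter_subset_left Set.inter_subset_left)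
    omega
  have h17 : K.ncard ≤ 17 := by
    have hle : K ∪ (perp (perp T a) u \ (K ∩ perp T u)) ⊆ perp T a :=
      Set.union_subset (hK ▸ Set.inter_subset_left) fun z hz => hz.1.1
    have hdis : Disjoint K (perp (perp T a) u \ (K ∩ perp T u)) := Set.disjoint_left.2 fun z h1 h2 =>
      h2.2 ⟨h1, h2.1.1.1, h2.1.2⟩
    have h2 := Set.ncard_le_ncard hle
    have hsub : K ∩ perp T u ⊆ perp (perp T a) u := fun z hz => ⟨(hK ▸ hz.1 : z ∈ perp T a ∩ perp T b).1, hz.2.2⟩
    rw [Set.ncard_union_eq hdis, Set.ncard_sdiff hsub, ((h.loc a ha).loc u hu'.1).ncard_eq, hsix u hu,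
      (h.loc a ha).ncard_eq] at h2
    omega
  have h5 := h.mod5 a ha b hb hab
  rw [← hK] at h5
  omega

theorem Nine36.ncard_eq : T.ncard = 36 := by
  classical
  let _ : Fintype G := Fintype.ofFinite G
  let α := {x : G // x ∈ T}
  let R : α → α → Prop := fun x y => (x : G) ≠ y ∧ Commute (x : G) y
  obtain ⟨t₀, ht₀⟩ := h.ne
  haveI : Nonempty α := ⟨⟨t₀, ht₀⟩⟩
  have hcard : ∀ (p : α → Prop) [DecidablePred p] (S : Set G), (∀ y ∈ S, y ∈ T) →
      (∀ z : α, p z ↔ (z : G) ∈ S) → (Finset.univ.filter p).card = S.ncard := by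
    intro p _ S hS hp
    rw [← Set.ncard_coe_finset, ← Set.ncard_image_of_injective _ Subtype.val_injective]
    congr 1
    ext y
    constructor
    · rintro ⟨z, hz, rfl⟩
      exact (hp z).1 (Finset.mem_filter.1 hz).2
    · intro hy
      exact ⟨⟨y, hS y hy⟩, Finset.mem_filter.2 ⟨Finset.mem_univ _, (hp _).2 hy⟩, rfl⟩
  have hsrg : SRGTrace.IsSRG R 21 10 15 := by
    refine ⟨fun x y k => ⟨Ne.symm k.1, k.2.symm⟩, fun x k => k.1 rfl, fun x => ?_, fun x y k => ?_,
      fun x y hne k => ?_⟩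
    · rw [← (h.loc x x.2).ncard_eq]
      exact hcard _ _ (fun y hy => hy.1) fun z =>
        ⟨fun k => ⟨z.2, Ne.symm k.1, k.2⟩, fun k => ⟨Ne.symm k.2.1, k.2.2⟩⟩
    · rw [← ((h.loc x x.2).loc y ⟨y.2, Ne.symm k.1, k.2⟩).ncard_eq]
      exact hcard _ _ (fun z hz => hz.1.1) fun z =>
        ⟨fun q => ⟨⟨z.2, Ne.symm q.1.1, q.1.2⟩, Ne.symm q.2.1, q.2.2⟩,
          fun q => ⟨⟨Ne.symm q.1.2.1, q.1.2.2⟩, Ne.symm q.2.1, q.2.2⟩⟩
    · have hnc : ¬ Commute (x : G) y := fun c => k ⟨fun q => hne (Subtype.ext q), c⟩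
      rw [← (h.fifteen hD x.2 y.2 hnc).1]
      exact hcard _ _ (fun y hy => hy.1.1) fun z =>
        ⟨fun q => ⟨⟨z.2, Ne.symm q.1.1, q.1.2⟩, z.2, Ne.symm q.2.1, q.2.2⟩,
          fun q => ⟨⟨Ne.symm q.1.2.1, q.1.2.2⟩, Ne.symm q.2.2.1, q.2.2.2⟩⟩
  have hcount := SRGTrace.count_eq hsrg
  have hv : Fintype.card α = T.ncard := by rw [← Nat.card_coe_set_eq, Nat.card_eq_fintype_card]
  rw [hv] at hcount
  push_cast at hcount
  have : ((T.ncard : ℕ) : ℚ) = 36 := by linarith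
  exact_mod_cast this

theorem Nine36.exists_noncommuting {a : G} (ha : a ∈ T) : ∃ b ∈ T, ¬ Commute a b := by
  by_contra hc
  push Not at hc
  have hsub : T ⊆ insert a (perp T a) := fun b hb => by
    by_cases e : b = a
    · exact Or.inl e
    · exact Or.inr ⟨hb, e, hc b hb⟩
  have := (Set.ncard_le_ncard hsub).trans (Set.ncard_insert_le _ _)
  rw [h.ncard_eq hD, (h.loc a ha).ncard_eq] at this
  omega

/-- The members adjacent to one of two non-commuting members and not the other share a point. -/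
theorem Nine36.exists_point {a b : G} (ha : a ∈ T) (hb : b ∈ T) (hab : ¬ Commute a b)
    {φ : Equiv.Perm (Fin 7) →* G} (hinj : Function.Injective φ)
    (hTeq : Set.range (fun p => φ (sw7 p)) = perp T a) :
    ∃ i : Fin 7, ∀ p : Pair7, Commute b (φ (sw7 p)) ↔ ¬ Has7 i p := by
  classical
  obtain ⟨hK15, hK6⟩ := h.fifteen hD ha hb hab
  have hinj' : Function.Injective fun p => φ (sw7 p) := fun p q k => sw7_inj p q (hinj k)
  have hcm : ∀ p q, Commute (φ (sw7 p)) (φ (sw7 q)) ↔ sw7 p * sw7 q = sw7 q * sw7 p := fun p q =>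
    ⟨fun k => hinj (by rw [map_mul, map_mul]; exact k.eq), fun k => (show Commute (sw7 p) (sw7 q) from k).map φ⟩
  have hP : ∀ p, φ (sw7 p) ∈ perp T a := fun p => hTeq ▸ ⟨p, rfl⟩
  have hmemK : ∀ p, φ (sw7 p) ∈ perp T a ∩ perp T b ↔ Commute b (φ (sw7 p)) := fun p =>
    ⟨fun k => k.2.2.2, fun k => ⟨hP p, (hP p).1, fun e => hab (e ▸ (hP p).2.2), k⟩⟩
  have himg : ∀ (S : Set G) [DecidablePred fun p : Pair7 => φ (sw7 p) ∈ S], S ⊆ perp T a →
      (Finset.univ.filter fun p : Pair7 => φ (sw7 p) ∈ S).card = S.ncard := by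
    intro S _ hS
    rw [← Set.ncard_coe_finset, ← Set.ncard_image_of_injective _ hinj']
    congr 1
    ext z
    constructor
    · rintro ⟨p, hp, rfl⟩
      exact (Finset.mem_filter.1 hp).2
    · intro hz
      obtain ⟨p, rfl⟩ := hTeq.ge (hS hz)
      exact ⟨p, Finset.mem_filter.2 ⟨Finset.mem_univ _, hz⟩, rfl⟩
  obtain ⟨Kf, hKf⟩ : ∃ Kf : Finset Pair7, Kf = Finset.univ.filter fun p => Commute b (φ (sw7 p)) := ⟨_, rfl⟩
  obtain ⟨R, hR⟩ : ∃ R : Finset Pair7, R = Finset.univ.filter fun p => ¬ Commute b (φ (sw7 p)) := ⟨_, rfl⟩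
  have hKcard : Kf.card = 15 := by
    rw [hKf, ← hK15, ← himg _ Set.inter_subset_left]
    exact congrArg _ (Finset.filter_congr fun p _ => (hmemK p).symm)
  have hRcard : R.card = 6 := by
    have h21 : Kf.card + R.card = 21 := by
      rw [hKf, hR, Finset.card_filter_add_card_filter_not]; rfl
    omega
  let Adj : Pair7 → Pair7 → Prop := fun p q => p ≠ q ∧ sw7 p * sw7 q = sw7 q * sw7 p
  have hten : ∀ p, (Finset.univ.filter (Adj p)).card = 10 := by decide +kernel
  have hKdeg : ∀ p ∈ Kf, (R.filter (Adj p)).card = 4 := by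
    intro p hp
    rw [hKf, Finset.mem_filter] at hp
    have h6 : (Kf.filter (Adj p)).card = 6 := by
      rw [← hK6 _ ((hmemK p).2 hp.2), ← himg _ fun z hz => hz.1.1, hKf, Finset.filter_filter]
      refine congrArg _ (Finset.filter_congr fun q _ => ?_)
      constructor
      · rintro ⟨h1, h2, h3⟩
        exact ⟨(hmemK q).2 h1, (hP q).1, fun e => h2 (sw7_inj _ _ (hinj e)).symm, (hcm p q).2 h3⟩
      · rintro ⟨h1, -, h2, h3⟩
        exact ⟨(hmemK q).1 h1, fun e => h2 (e ▸ rfl), (hcm p q).1 h3⟩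
    have h10 : (Kf.filter (Adj p)).card + (R.filter (Adj p)).card = 10 := by
      rw [hKf, hR, Finset.filter_comm, Finset.filter_comm (fun q => ¬ Commute b (φ (sw7 q))),
        Finset.card_filter_add_card_filter_not, hten]
    omega
  have hindep : ∀ p ∈ R, ∀ q ∈ R, p = q ∨ sw7 p * sw7 q ≠ sw7 q * sw7 p := by
    intro p hp q hq
    by_contra hcon
    push Not at hcon
    have hsum := Finset.sum_card_bipartiteAbove_eq_sum_card_bipartiteBelow (s := Kf) (t := R) Adj
    rw [Finset.sum_congr rfl fun u hu => show (R.bipartiteAbove Adj u).card = 4 from hKdeg u hu, Finset.sum_const,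
      hKcard, smul_eq_mul] at hsum
    have hle : ∀ r ∈ R, (Kf.bipartiteBelow Adj r).card ≤ if r = p then 9 else 10 := by
      intro r hr
      have hsub : Kf.bipartiteBelow Adj r ⊆ Finset.univ.filter (Adj r) := fun u hu =>
        Finset.mem_filter.2 ⟨Finset.mem_univ _, Ne.symm (Finset.mem_filter.1 hu).2.1, (Finset.mem_filter.1 hu).2.2.symm⟩
      split_ifs with e
      · subst e
        have hlt : Kf.bipartiteBelow Adj r ⊂ Finset.univ.filter (Adj r) := by
          refine Finset.ssubset_iff_subset_ne.2 ⟨hsub, fun k => ?_⟩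
          have hqm : q ∈ Finset.univ.filter (Adj r) := Finset.mem_filter.2 ⟨Finset.mem_univ _, hcon.1, hcon.2⟩
          rw [← k] at hqm
          have h1 := (Finset.mem_filter.1 hqm).1
          rw [hKf, Finset.mem_filter] at h1
          rw [hR, Finset.mem_filter] at hq
          exact hq.2 h1.2
        have := Finset.card_lt_card hlt
        rw [hten] at this
        omega
      · exact (Finset.card_le_card hsub).trans (hten r).le
    have h2 := hsum.le.trans (Finset.sum_le_sum hle)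
    rw [← Finset.add_sum_erase R _ hp, if_pos rfl, Finset.sum_congr rfl fun r hr => if_neg (Finset.ne_of_mem_erase hr),
      Finset.sum_const, Finset.card_erase_of_mem hp, hRcard] at h2
    simp at h2
  obtain ⟨p, hp, q, hq, hpq⟩ := Finset.one_lt_card.1 (by rw [hRcard]; norm_num : 1 < R.card)
  obtain ⟨i, -, -, hi⟩ := pair7_meet p q hpq ((hindep p hp q hq).resolve_left hpq)
  have hRi : R ⊆ Finset.univ.filter (Has7 i) := by
    intro r hr
    rw [Finset.mem_filter]
    refine ⟨Finset.mem_univ _, ?_⟩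
    by_contra hni
    have hsub : R ⊆ {p, q, r} := fun r' hr' => by
      have := hi r (hindep r hr p hp) (hindep r hr q hq) hni r' (hindep r' hr' p hp) (hindep r' hr' q hq)
        (hindep r' hr' r hr)
      simpa using this
    have := (Finset.card_le_card hsub).trans Finset.card_le_three
    omega
  have hReq := Finset.eq_of_subset_of_card_le hRi (by rw [card_has7, hRcard])
  refine ⟨i, fun p => ?_⟩
  have := Finset.ext_iff.1 hReq p
  simp only [hR, Finset.mem_filter, Finset.mem_univ, true_and] at this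
  rw [← this, not_not]

/-- Eight members in a string. -/
theorem Nine36.exists_string : ∃ s : Fin 8 → G, (∀ i, s i ∈ T) ∧
    (∀ i j : Fin 8, (i : ℕ) + 1 < j → Commute (s i) (s j)) ∧
      ∀ i j : Fin 8, (i : ℕ) + 1 = j → ¬ Commute (s i) (s j) := by
  obtain ⟨a, ha⟩ := h.ne
  obtain ⟨φ, hinj, hTeq, -⟩ := (h.loc a ha).exists_hom hD
  obtain ⟨b, hb, hab⟩ := h.exists_noncommuting hD ha
  obtain ⟨i, hi⟩ := h.exists_point hD ha hb hab hinj hTeq
  obtain ⟨σ, hσ⟩ : ∃ σ, σ = Equiv.swap (0 : Fin 7) i := ⟨_, rfl⟩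
  have hex : ∀ j : Fin 6, ∃ p, sw7 p = Equiv.swap (σ j.castSucc) (σ j.succ) := fun j =>
    exists_pair7 _ _ fun k => (ne_of_lt j.castSucc_lt_succ) (σ.injective k)
  obtain ⟨t, htdef⟩ : ∃ t : Fin 6 → G, t = fun j => φ (sw7 (hex j).choose) := ⟨_, rfl⟩
  have htσ : ∀ j, t j = φ (σ * adj7 j * σ⁻¹) := fun j => by
    rw [htdef]
    show φ (sw7 (hex j).choose) = _
    rw [(hex j).choose_spec, adj7, Equiv.mul_swap_eq_swap_mul, mul_inv_cancel_right]
  have htP : ∀ j, t j ∈ perp T a := fun j => by rw [htdef, ← hTeq]; exact ⟨_, rfl⟩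
  have htb : ∀ j, Commute b (t j) ↔ j ≠ 0 := fun j => by
    rw [htdef]
    show Commute b (φ (sw7 (hex j).choose)) ↔ _
    rw [hi, has7_moved i j _ (hσ ▸ (hex j).choose_spec)]
  have htc : ∀ i j : Fin 6, i < j → (Commute (t i) (t j) ↔ (i : ℕ) + 1 ≠ j) := fun i j hij => by
    rw [← adj7_commute i j hij, htσ, htσ, map_mul, map_mul, map_mul, map_mul, map_inv, conj_commute_iff]
    exact ⟨fun k => (hinj (by rw [map_mul, map_mul]; exact k.symm.eq)), fun k =>
      ((show Commute (adj7 j) (adj7 i) from k).map φ).symm⟩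
  refine ⟨Fin.cons a (Fin.cons b t), ?_, ?_, ?_⟩
  · intro i
    induction i using Fin.cases with
    | zero => exact ha
    | succ i =>
      induction i using Fin.cases with
      | zero => exact hb
      | succ i => exact (htP i).1
  · intro i j hij
    induction j using Fin.cases with
    | zero => simp at hij
    | succ j =>
      induction j using Fin.cases with
      | zero => simp at hij
      | succ j =>
        induction i using Fin.cases with
        | zero => simp only [Fin.cons_zero, Fin.cons_succ]; exact (htP j).2.2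
        | succ i =>
          induction i using Fin.cases with
          | zero =>
            simp only [Fin.cons_zero, Fin.cons_succ]
            refine (htb j).2 fun e => ?_
            subst e
            simp at hij
          | succ i =>
            simp only [Fin.cons_succ]
            simp only [Fin.val_succ] at hij
            exact (htc i j (Fin.lt_def.2 (by omega))).2 (by omega)
  · intro i j hij
    induction j using Fin.cases with
    | zero => simp at hij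
    | succ j =>
      induction i using Fin.cases with
      | zero =>
        induction j using Fin.cases with
        | zero => simpa using hab
        | succ j => simp at hij
      | succ i =>
        induction j using Fin.cases with
        | zero => simp at hij
        | succ j =>
          induction i using Fin.cases with
          | zero =>
            simp only [Fin.cons_zero, Fin.cons_succ]
            refine fun k => (htb j).1 k (Fin.ext ?_)
            simp at hij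
            simpa using hij
          | succ i =>
            simp only [Fin.cons_succ]
            simp only [Fin.val_succ] at hij
            exact fun k => (htc i j (Fin.lt_def.2 (by omega))).1 k (by omega)

/-- The thirty-six members are the images of the transpositions. -/
theorem Nine36.exists_hom : ∃ φ : Equiv.Perm (Fin 9) →* G,
    Function.Injective φ ∧ Set.range (fun p => φ (sw9 p)) = T ∧ φ.range = Subgroup.closure T := by
  obtain ⟨s, hsT, hsc, hsn⟩ := h.exists_string hD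
  obtain ⟨cs, hcs⟩ := CfsgLib.Generators.exists_coxeterSystem_perm 8
  have hlift : (CoxeterMatrix.A 8).IsLiftable s := by
    intro i j
    show (s i * s j) ^ (if i = j then 1 else
      (if (j : ℕ) + 1 = i ∨ (i : ℕ) + 1 = j then 3 else 2)) = 1
    have hsq : ∀ k, s k * s k = 1 := fun k => sq_eq_one hD.1 (h.sub (hsT k))
    split_ifs with k k'
    · rw [k, pow_one, hsq]
    · rcases k' with k' | k'
      · exact cube_of_not_commute hD.1 (h.sub (hsT i)) (h.sub (hsT j)) fun q => hsn j i k' q.symm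
      · exact cube_of_not_commute hD.1 (h.sub (hsT i)) (h.sub (hsT j)) (hsn i j k')
    · rw [not_or] at k'
      have hne : (i : ℕ) ≠ j := fun q => k (Fin.ext q)
      have hcm : Commute (s i) (s j) := by
        rcases lt_or_gt_of_ne hne with q | q
        · exact hsc i j (by omega)
        · exact (hsc j i (by omega)).symm
      rw [hcm.mul_pow, pow_two, pow_two, hsq, hsq, one_mul]
  obtain ⟨φ, hφdef⟩ : ∃ φ : Equiv.Perm (Fin 9) →* G, φ = cs.lift ⟨s, hlift⟩ := ⟨_, rfl⟩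
  have hφ : ∀ i : Fin 8, φ (adj9 i) = s i := fun i => by
    rw [hφdef, adj9, ← hcs i]; exact cs.lift_apply_simple hlift i
  have hinv : ∀ σ : Equiv.Perm (Fin 9), ∀ t ∈ T, φ σ * t * (φ σ)⁻¹ ∈ T := by
    intro σ
    have hmem : σ ∈ Submonoid.closure (Set.range fun i : Fin 8 => Equiv.swap i.castSucc i.succ) := by
      rw [Equiv.Perm.mclosure_swap_castSucc_succ]; trivial
    induction hmem using Submonoid.closure_induction with
    | mem g hg =>
      obtain ⟨i, rfl⟩ := hg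
      intro t ht
      rw [show φ (Equiv.swap i.castSucc i.succ) = s i from hφ i, inv_eq hD.1 (h.sub (hsT i))]
      exact h.closed _ (hsT i) t ht
    | one => intro t ht; simpa using ht
    | mul p q _ _ hp hq =>
      intro t ht
      rw [map_mul, show φ p * φ q * t * (φ p * φ q)⁻¹ = φ p * (φ q * t * (φ q)⁻¹) * (φ p)⁻¹ by group]
      exact hp _ (hq t ht)
  have hclos : ∀ σ, φ σ ∈ Subgroup.closure T := by
    intro σ
    have hmem : σ ∈ Submonoid.closure (Set.range fun i : Fin 8 => Equiv.swap i.castSucc i.succ) := by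
      rw [Equiv.Perm.mclosure_swap_castSucc_succ]; trivial
    induction hmem using Submonoid.closure_induction with
    | mem g hg =>
      obtain ⟨i, rfl⟩ := hg
      rw [show φ (Equiv.swap i.castSucc i.succ) = s i from hφ i]
      exact Subgroup.subset_closure (hsT i)
    | one => rw [map_one]; exact one_mem _
    | mul p q _ _ hp hq => rw [map_mul]; exact mul_mem hp hq
  have hmemT : ∀ p, φ (sw9 p) ∈ T := by
    intro p
    obtain ⟨g, hg⟩ := isConj_iff.1 (Equiv.Perm.isConj_swap (show (0 : Fin 9) ≠ 1 by decide) (ne_of_lt p.2))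
    have hg' : g * adj9 0 * g⁻¹ = sw9 p := hg
    rw [← hg', map_mul, map_mul, map_inv, hφ]
    exact hinv g _ (hsT 0)
  have hnc : ∀ p q, sw9 p * sw9 q ≠ sw9 q * sw9 p → ¬ Commute (φ (sw9 p)) (φ (sw9 q)) := by
    intro p q k
    obtain ⟨x, y, z, h1, h2⟩ := sw9_adjacent p q k
    obtain ⟨g, hg⟩ : ∃ g, g = Equiv.swap 0 x * Equiv.swap 1 y * Equiv.swap 2 z := ⟨_, rfl⟩
    rw [← hg] at h1 h2
    rw [eq_mul_inv_of_mul_eq h1.symm, eq_mul_inv_of_mul_eq h2.symm, map_mul, map_mul, map_mul, map_mul, map_inv,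
      hφ, hφ, conj_commute_iff]
    exact hsn 0 1 rfl
  have hτ : ∀ p q : Pair9, φ (sw9 p) = φ (sw9 q) → p = q := by
    intro p q k
    by_contra hne
    by_cases hc' : sw9 p * sw9 q = sw9 q * sw9 p
    · obtain ⟨r, hr1, hr2⟩ := sw9_separate p q hne hc'
      exact hnc r q hr2 (k ▸ (show Commute (sw9 r) (sw9 p) from hr1).map φ)
    · exact hnc p q hc' (by rw [k])
  have hinj : Function.Injective φ := by
    refine (injective_iff_map_eq_one φ).2 fun σ hσ => perm_nine_center σ fun i j => ?_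
    by_cases hij : i = j
    · subst hij; rw [Equiv.swap_self]; rfl
    obtain ⟨p, hp⟩ := exists_pair9 i j hij
    obtain ⟨q, hq⟩ := exists_pair9 (σ i) (σ j) (fun k => hij (σ.injective k))
    have hconj : σ * Equiv.swap i j = Equiv.swap (σ i) (σ j) * σ := Equiv.mul_swap_eq_swap_mul σ i j
    rw [hconj]
    have h1 := congrArg φ hconj
    rw [map_mul, map_mul, hσ, one_mul, mul_one, ← hp, ← hq] at h1
    rw [← hp, ← hq, hτ p q h1]
  have hTeq : Set.range (fun p => φ (sw9 p)) = T := by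
    refine Set.eq_of_subset_of_ncard_le (Set.range_subset_iff.2 hmemT) (le_of_eq ?_)
    rw [h.ncard_eq hD, Set.ncard_range_of_injective (fun p q k => hτ p q k), Nat.card_eq_fintype_card]
    rfl
  refine ⟨φ, hinj, hTeq, le_antisymm ?_ ?_⟩
  · rintro _ ⟨σ, rfl⟩
    exact hclos σ
  · rw [Subgroup.closure_le]
    intro t ht
    rw [← hTeq] at ht
    obtain ⟨p, rfl⟩ := ht
    exact ⟨sw9 p, rfl⟩

theorem Nine36.iso : Nonempty (Subgroup.closure T ≃* Equiv.Perm (Fin 9)) := by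
  obtain ⟨φ, hinj, -, hr⟩ := h.exists_hom hD
  exact ⟨(MulEquiv.subgroupCongr hr.symm).trans (MonoidHom.ofInjective hinj).symm⟩

theorem Nine36.split {N : Subgroup G} (hTN : Subgroup.closure T ≤ N) (hN : ∀ n ∈ N, ∀ t ∈ T, n * t * n⁻¹ ∈ T) :
    (N ⊓ Subgroup.centralizer T) ⊓ Subgroup.closure T = ⊥ ∧
      (∀ u ∈ N ⊓ Subgroup.centralizer T, ∀ y ∈ Subgroup.closure T, u * y = y * u) ∧
        (N ⊓ Subgroup.centralizer T) ⊔ Subgroup.closure T = N := by
  obtain ⟨φ, hinj, hTeq, hr⟩ := h.exists_hom hD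
  have hcomm : ∀ u ∈ N ⊓ Subgroup.centralizer T, ∀ y ∈ Subgroup.closure T, u * y = y * u := by
    intro u hu y hy
    have hle : Subgroup.closure T ≤ Subgroup.centralizer ({u} : Set G) := by
      rw [Subgroup.closure_le]
      intro w hw
      exact Subgroup.mem_centralizer_singleton_iff.2 ((Subgroup.mem_inf.1 hu).2 w hw)
    exact (Subgroup.mem_centralizer_singleton_iff.1 (hle hy)).symm
  have hmem : ∀ i j : Fin 9, φ (Equiv.swap i j) ∈ Subgroup.closure T := fun i j => hr.le ⟨_, rfl⟩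
  refine ⟨?_, hcomm, le_antisymm (sup_le inf_le_left hTN) fun n hn => ?_⟩
  · rw [eq_bot_iff]
    intro z hz
    obtain ⟨hz1, hz2⟩ := Subgroup.mem_inf.1 hz
    obtain ⟨σ, rfl⟩ := hr.ge hz2
    refine Subgroup.mem_bot.2 ?_
    rw [perm_nine_center σ fun i j => hinj ?_, map_one]
    rw [map_mul, map_mul]
    exact hcomm _ hz1 _ (hmem i j)
  · have hcm : ∀ σ τ : Equiv.Perm (Fin 9), Commute (φ σ) (φ τ) ↔ σ * τ = τ * σ := fun σ τ =>
      ⟨fun k => hinj (by rw [map_mul, map_mul]; exact k.eq), fun k => (show Commute σ τ from k).map φ⟩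
    obtain ⟨q, hq⟩ : ∃ q : Fin 8 → Pair9, ∀ i, φ (sw9 (q i)) = n * φ (adj9 i) * n⁻¹ := by
      have : ∀ i : Fin 8, ∃ q, φ (sw9 q) = n * φ (adj9 i) * n⁻¹ := by
        intro i
        obtain ⟨p, hp⟩ := exists_pair9 i.castSucc i.succ (ne_of_lt i.castSucc_lt_succ)
        have hiT : φ (adj9 i) ∈ T := hTeq ▸ ⟨p, congrArg φ hp⟩
        have := hN n hn _ hiT
        rw [← hTeq] at this
        exact this
      exact ⟨fun i => (this i).choose, fun i => (this i).choose_spec⟩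
    have hrel : ∀ i k : Fin 8, sw9 (q k) * sw9 (q i) = sw9 (q i) * sw9 (q k) ↔
        adj9 k * adj9 i = adj9 i * adj9 k := fun i k => by
      rw [← hcm, hq, hq, conj_commute_iff, hcm]
    have hnorm : ∀ k ≤ 8, ∃ σ : Equiv.Perm (Fin 9), ∀ i : Fin 8, (i : ℕ) < k → σ * sw9 (q i) = adj9 i * σ := by
      intro k
      induction k with
      | zero => exact fun _ => ⟨1, fun i hi => absurd hi (Nat.not_lt_zero _)⟩
      | succ k ih =>
        intro hk
        obtain ⟨σ, hσ⟩ := ih (by omega)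
        obtain ⟨k', hk'⟩ : ∃ k' : Fin 8, (k' : ℕ) = k := ⟨⟨k, hk⟩, rfl⟩
        obtain ⟨p, hp⟩ := exists_pair9 (σ (q k').1.1) (σ (q k').1.2) (fun e => ne_of_lt (q k').2 (σ.injective e))
        have hpσ : σ * sw9 (q k') = sw9 p * σ := by rw [hp]; exact Equiv.mul_swap_eq_swap_mul _ _ _
        obtain ⟨x, y, z, w, h1, h2⟩ := adj9_step k' p fun i hi => by
          rw [← adj9_commute i k' hi, ← hrel i k', eq_mul_inv_of_mul_eq hpσ.symm]
          rw [eq_mul_inv_of_mul_eq (hσ i (hk' ▸ hi)).symm]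
          refine ⟨(conj_commute_iff σ (sw9 (q k')) (sw9 (q i))), fun e => ?_⟩
          have e' : sw9 (q k') = sw9 (q i) := mul_left_cancel (mul_right_cancel e)
          have e'' := hq k'
          rw [e', hq i] at e''
          have e3 := hinj (mul_left_cancel (mul_right_cancel e''))
          exact (ne_of_lt hi) (Fin.castSucc_injective _ (adj9_inj i k' e3))
        refine ⟨Equiv.swap x y * Equiv.swap z w * σ, fun i hi => ?_⟩
        rcases Nat.lt_succ_iff_lt_or_eq.1 hi with hlt | heq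
        · rw [mul_assoc, hσ i hlt, ← mul_assoc, h2 i (hk'.symm ▸ hlt : (i : ℕ) < k'), mul_assoc]
        · obtain rfl : i = k' := Fin.ext (heq.trans hk'.symm)
          rw [mul_assoc, hpσ, ← mul_assoc, h1, mul_assoc]
    obtain ⟨σ, hσ⟩ := hnorm 8 le_rfl
    have hu : φ σ * n ∈ N ⊓ Subgroup.centralizer T := by
      refine Subgroup.mem_inf.2 ⟨mul_mem (hTN (hr.le ⟨σ, rfl⟩)) hn, ?_⟩
      have hadj : ∀ i, Commute (φ σ * n) (φ (adj9 i)) := fun i => by
        show φ σ * n * φ (adj9 i) = φ (adj9 i) * (φ σ * n)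
        rw [mul_assoc, eq_mul_of_mul_inv_eq (hq i).symm, ← mul_assoc, ← map_mul, hσ i i.2, map_mul, mul_assoc]
      have hall : ∀ τ, Commute (φ σ * n) (φ τ) := by
        intro τ
        have hmem : τ ∈ Submonoid.closure (Set.range fun i : Fin 8 => Equiv.swap i.castSucc i.succ) := by
          rw [Equiv.Perm.mclosure_swap_castSucc_succ]; trivial
        induction hmem using Submonoid.closure_induction with
        | mem g hg => obtain ⟨i, rfl⟩ := hg; exact hadj i
        | one => rw [map_one]; exact Commute.one_right _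
        | mul p q _ _ hp hq => rw [map_mul]; exact hp.mul_right hq
      intro t ht
      rw [← hTeq] at ht
      obtain ⟨p, rfl⟩ := ht
      exact (hall _).symm.eq
    rw [show n = (φ σ)⁻¹ * (φ σ * n) by group]
    exact mul_mem (Subgroup.mem_sup_right (inv_mem (hr.le ⟨σ, rfl⟩))) (Subgroup.mem_sup_left hu)

end CfsgLib.Fischer.M22Sylow
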